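import Groth.Agent.H16Derived.EvalHom.Tau
import Groth.Agent.H4RSH.BoundedInjective

/-!
# The evaluation map is invertible for pseudo-coherent sources and targets of finite injective dimension
-/

set_option autoImplicit false
set_option linter.style.haveILetI false
set_option linter.unusedSectionVars false
set_option backward.isDefEq.respectTransparency false
set_option maxHeartbeats 1000000

universe u

open CategoryTheory CategoryTheory.Limits AlgebraicGeometry Pretriangulated Opposite TopologicalSpace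
open DerivedCategory.TStructure (t)

attribute [local instance] HasDerivedCategory.standard

namespace Groth.Agent.H16Derived.EvalHom

open Groth.Agent.H10Coh Groth.Agent.H16Derived Groth.Agent.H16Derived.QCohD Groth.Agent.H16Derived.Dual
  Groth.Agent.H16Derived.KFlat Groth.Agent.H16Derived.KFlat.Stalk
open Groth.Agent.LeadBrown (isZero_hd_cone isIso_hd_of_cone)

variable {X : Scheme.{u}}

/-- A cohomology sheaf vanishes over `A` when no map out of a shifted `O_V`, `V ⊆ A`, hits it. -/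
theorem isZero_hd_rA_of_tests (A : X.Opens) (Z : DCoh.D X) (i : ℤ)
    (h : ∀ V : X.Opens, V ≤ A → ∀ f : (DerivedCategory.singleFunctor X.Modules i).obj (freeSh V) ⟶ Z, f = 0) :
    IsZero (DCoh.HD ((rA A).obj Z) i) := by
  refine H17.FPExt.isZero_of_stalk _ fun x => ?_
  by_contra hx
  refine (Thomason.mem_support_rd A.ι Z i x).1 hx ?_
  let C := DerivedCategory.Q.objPreimage Z
  let e : DerivedCategory.Q.obj C ≅ Z := DerivedCategory.Q.objObjPreimageIso Z
  let H := DCoh.HD Z i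
  let i' : C.homology i ≅ H :=
    ((DerivedCategory.homologyFunctorFactors X.Modules i).app C).symm ≪≫
      (DerivedCategory.homologyFunctor X.Modules i).mapIso e
  haveI : Epi (C.homologyπ i ≫ i'.hom) := @epi_comp _ _ _ _ _ _ inferInstance i'.hom inferInstance
  have key : ∀ a : H.presheaf.stalk (A.ι.base x), a = 0 := by
    intro a
    obtain ⟨U₀, hU₀, s, rfl⟩ := TopCat.Presheaf.exists_germ_eq H.presheaf a
    obtain ⟨W, hW, hxW, z, hz⟩ := exists_nhds_lift_of_epi (C.homologyπ i ≫ i'.hom) U₀ s _ hU₀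
    let V := W ⊓ A
    have hle : V ≤ W := inf_le_left
    have hxV : A.ι.base x ∈ V := ⟨hxW, x.2⟩
    let φ : freeSh V ⟶ C.cycles i := (freeShEquiv V _).symm ((C.cycles i).presheaf.map (homOfLE hle).op z)
    obtain ⟨a, ha⟩ := comp_homologyπ_mem_range C i e φ
    rw [h V inf_le_right a, θ_zero] at ha
    have h2 : freeShEquiv V H (φ ≫ C.homologyπ i ≫ i'.hom) = 0 := by
      have h3 := freeShEquiv_comp V (0 : freeSh V ⟶ H) (0 : H ⟶ H)
      rw [comp_zero] at h3
      exact (congrArg (freeShEquiv V H) ha.symm).trans h3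
    rw [freeShEquiv_comp, Equiv.apply_symm_apply] at h2
    refine germ_eq_zero_of_le H (le_trans hle hW) hxV _ ?_
    refine Eq.trans ?_ h2
    refine ((H11Tilde.app_map_apply (C.homologyπ i ≫ i'.hom) hle z).trans ?_).symm
    exact (congrArg _ hz).trans (mres_mres H hW hle _)
  exact ⟨fun a b => (key a).trans (key b).symm⟩

/-- Tensoring with a bounded above object keeps a bound over `A`. -/
theorem isZero_hd_TObj (n : DCoh.D X) (b : ℤ) [n.IsLE b] (A : X.Opens) (C : DCoh.D X) (ν : ℤ)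
    (hC : ((rA A).obj C).IsLE ν) (j : ℤ) (hj : b + ν < j) :
    IsZero (DCoh.HD ((rA A).obj (((T X).obj n).obj C)) j) := by
  let C' := (t.truncLE ν).obj C
  let ι' : C' ⟶ C := (t.truncLTι (ν + 1)).app C
  have hι : IsoOn A ι' := by
    refine (Triangle.isZero₃_iff_isIso₁ _ ((rA A).map_distinguished _
      (t.triangleLTGE_distinguished (ν + 1) C))).1 (MVPush.isZero_of_hd _ fun q => ?_)
    show IsZero (DCoh.HD ((rA A).obj ((t.truncGE (ν + 1)).obj C)) q)
    refine IsZero.of_iso ?_ (homologyRdIso A.ι _ q)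
    rcases lt_or_ge q (ν + 1) with hq | hq
    · exact (Scheme.Modules.restrictFunctor A.ι).map_isZero (DerivedCategory.isZero_of_isGE _ (ν + 1) q hq)
    · haveI := DTrunc.isIso_homology_truncGEπ C (ν + 1) q hq
      haveI := hC
      exact (((DerivedCategory.isZero_of_isLE ((rA A).obj C) ν q (by omega)).of_iso
        (homologyRdIso A.ι _ q).symm)).of_iso
          ((Scheme.Modules.restrictFunctor A.ι).mapIso (asIso ((DerivedCategory.homologyFunctor _ q).map
            ((t.truncGEπ (ν + 1)).app C))).symm)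
  haveI hC' : DerivedCategory.IsLE C' ν := inferInstanceAs (t.IsLE ((t.truncLE ν).obj C) ν)
  let D := DerivedCategory.Q.objPreimage C'
  let eD : DerivedCategory.Q.obj D ≅ C' := DerivedCategory.Q.objObjPreimageIso _
  haveI := hasLTensorCx D
  haveI : (DCoh.toD X D).IsLE ν := ⟨(t.le _).prop_of_iso eD.symm hC'.le⟩
  haveI := Thomason.isLE_ltensorCx D ν (C := n) b
  let e : (DCoh.LTensorCx D).obj n ≅ ((T X).obj n).obj C' :=
    ((ltensorCxIsoT D).app _).symm ≪≫ ((T X).obj n).mapIso eD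
  have hT1 : IsoOn A (((T X).obj n).map ι') := isoOn_TObj _ hι
  haveI : IsIso ((rA A).map (((T X).obj n).map ι')) := hT1
  let eC : (rA A).obj ((DCoh.LTensorCx D).obj n) ≅ (rA A).obj (((T X).obj n).obj C) :=
    (rA A).mapIso e ≪≫ asIso ((rA A).map (((T X).obj n).map ι'))
  haveI := isLE_rd A.ι ((DCoh.LTensorCx D).obj n) (b + ν)
  exact (DerivedCategory.isZero_of_isLE ((rA A).obj ((DCoh.LTensorCx D).obj n)) _ j hj).of_iso
    ((DerivedCategory.homologyFunctor _ j).mapIso eC).symm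

/-- Tensoring maps with cone in low degrees over `A` to maps bijective in high degrees. -/
theorem isIso_hd_TObj (n : DCoh.D X) (b : ℤ) [n.IsLE b] (A : X.Opens) {T₀ : Triangle (DCoh.D X)}
    (hT : T₀ ∈ distTriang (DCoh.D X)) (ν : ℤ) (hC : ((rA A).obj T₀.obj₃).IsLE ν) (i : ℤ) (hi : b + ν + 1 < i) :
    IsIso ((DerivedCategory.homologyFunctor _ i).map ((rA A).map (((T X).obj n).map T₀.mor₁))) := by
  let F := (T X).obj n
  obtain ⟨Z₁, p₁, w₁, hZ⟩ := distinguished_cocone_triangle (F.map T₀.mor₁)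
  obtain ⟨r, hr⟩ := H25DTen.Dev.exists_factor_map (Adjunction.ofIsLeftAdjoint F) _ hT p₁
    (comp_distTriang_mor_zero₁₂ _ hZ)
  haveI hepi : Epi ((DerivedCategory.homologyFunctor _ i).map ((rA A).map (F.map T₀.mor₁))) := by
    refine (DerivedCategory.HomologySequence.epi_homologyMap_mor₁_iff _ ((rA A).map_distinguished _ hZ) i).2 ?_
    show (DerivedCategory.homologyFunctor _ i).map ((rA A).map p₁) = 0
    rw [← hr, Functor.map_comp, Functor.map_comp,
      (isZero_hd_TObj n b A T₀.obj₃ ν hC i (by omega)).eq_of_tgt ((DerivedCategory.homologyFunctor _ i).map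
        ((rA A).map (F.map T₀.mor₂))) 0, zero_comp]
  obtain ⟨K, j, d, hd⟩ := distinguished_cocone_triangle₁ (F.map T₀.mor₁)
  obtain ⟨q, hq⟩ := H25DTen.Dev.exists_lift_map (Adjunction.ofIsLeftAdjoint F) _ (inv_rot_of_distTriang _ hT) j
    (comp_distTriang_mor_zero₁₂ _ hd)
  have hC' : ((rA A).obj (T₀.obj₃⟦(-1 : ℤ)⟧)).IsLE (ν + 1) := by
    haveI := hC
    haveI : t.IsLE ((rA A ⋙ shiftFunctor (DCoh.D (A : Scheme.{u})) (-1 : ℤ)).obj T₀.obj₃) (ν + 1) :=
      t.isLE_shift ((rA A).obj T₀.obj₃) ν (-1) (ν + 1) (by omega)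
    exact t.isLE_of_iso (((rA A).commShiftIso (-1 : ℤ)).app T₀.obj₃).symm (ν + 1)
  haveI hmono : Mono ((DerivedCategory.homologyFunctor _ i).map ((rA A).map (F.map T₀.mor₁))) := by
    have hex := DerivedCategory.HomologySequence.exact₂ _ ((rA A).map_distinguished _ hd) i
    refine hex.mono_g ?_
    show (DerivedCategory.homologyFunctor _ i).map ((rA A).map j) = 0
    rw [← hq, Functor.map_comp, Functor.map_comp]
    exact (congrArg (_ ≫ ·) ((isZero_hd_TObj n b A (T₀.obj₃⟦(-1 : ℤ)⟧) (ν + 1) hC' i (by omega)).eq_of_src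
      ((DerivedCategory.homologyFunctor _ i).map ((rA A).map (F.map T₀.invRotate.mor₁))) 0)).trans comp_zero
  exact isIso_of_mono_of_epi _

variable (I : CochainComplex X.Modules ℤ) (hI : ∀ i : ℤ, Injective (I.X i)) {a₀ b₀ : ℤ}
  (hab : ∀ i : ℤ, (i < a₀ ∨ b₀ < i) → IsZero (I.X i))
include hI hab

/-- No maps from shifted `O_V` into `RHom(C, m)` in high degrees, for `C` bounded below over `A`. -/
theorem eq_zero_test {A : X.Opens} {C : DCoh.D X} {c j : ℤ} (hC : ((rA A).obj C).IsGE c) (hj : b₀ < c + j)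
    {V : X.Opens} (hV : V ≤ A)
    (f : (DerivedCategory.singleFunctor X.Modules j).obj (freeSh V) ⟶ (R C).obj (DerivedCategory.Q.obj I)) :
    f = 0 := by
  have hCV : ((rA V).obj C).IsGE c := by
    haveI : t.IsGE ((rd (X.homOfLE hV)).obj ((rA A).obj C)) c := LeadBrown.isGE_rd' (X.homOfLE hV) _ c hC
    exact t.isGE_of_iso (rdComp (X.homOfLE hV) A.ι V.ι (X.homOfLE_ι hV) C).symm c
  haveI := H4RSH.subsingleton_hom_rd I hI hab V.ι (i := j) _ hCV hj
  haveI := H4RSH.subsingleton_test C (DerivedCategory.Q.obj I) j V ‹_›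
  exact Subsingleton.elim _ _

/-- `RHom(-, m)` turns maps with cone in high degrees over `A` into maps bijective in high degrees. -/
theorem isIso_hd_Rmap_bounded {A : X.Opens} {T₀ : Triangle (DCoh.D X)} (hT : T₀ ∈ distTriang (DCoh.D X))
    {c i : ℤ} (hC : ((rA A).obj T₀.obj₃).IsGE c) (hi : b₀ + 1 < c + i) :
    IsIso ((DerivedCategory.homologyFunctor _ i).map ((rA A).map (Rmap T₀.mor₁ (DerivedCategory.Q.obj I)))) := by
  let m := DerivedCategory.Q.obj I
  obtain ⟨Z, p, w, hZ⟩ := distinguished_cocone_triangle (Rmap T₀.mor₁ m)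
  have hz : ∀ j, b₀ < c + j → IsZero (DCoh.HD ((rA A).obj Z) j) := fun j hj => by
    refine isZero_hd_rA_of_tests A Z j fun V hV f => ?_
    let G := fun q => (DerivedCategory.singleFunctor X.Modules q).obj (freeSh V)
    -- no maps `G q ⊗ C ⟶ m`
    have hvan : ∀ q, b₀ < c + q → ∀ r : ((T X).obj (G q)).obj T₀.obj₃ ⟶ m, r = 0 := fun q hq r =>
      ((adjR T₀.obj₃).homEquiv _ _).injective
        ((eq_zero_test I hI hab hC hq hV _).trans (eq_zero_test I hI hab hC hq hV _).symm)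
    have hC' : ((rA A).obj (T₀.obj₃⟦(-1 : ℤ)⟧)).IsGE (c + 1) := by
      haveI := hC
      haveI : t.IsGE (((rA A).obj T₀.obj₃)⟦(-1 : ℤ)⟧) (c + 1) := t.isGE_shift _ c (-1) (c + 1) (by omega)
      haveI : t.IsGE ((rA A ⋙ shiftFunctor (DCoh.D (A : Scheme.{u})) (-1 : ℤ)).obj T₀.obj₃) (c + 1) := ‹_›
      exact t.isGE_of_iso (((rA A).commShiftIso (-1 : ℤ)).app T₀.obj₃).symm (c + 1)
    have hvan' : ∀ r : ((T X).obj (G j)).obj (T₀.obj₃⟦(-1 : ℤ)⟧) ⟶ m, r = 0 := fun r =>
      ((adjR (T₀.obj₃⟦(-1 : ℤ)⟧)).homEquiv _ _).injective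
        ((eq_zero_test I hI hab hC' (by omega) hV _).trans (eq_zero_test I hI hab hC' (by omega) hV _).symm)
    have hinj : ∀ q, b₀ < c + q → ∀ x : G q ⟶ (R T₀.obj₂).obj m, x ≫ Rmap T₀.mor₁ m = 0 → x = 0 := by
      intro q hq x hx
      apply ((adjR T₀.obj₂).homEquiv _ _).symm.injective
      have h0 : ((T X).obj (G q)).map T₀.mor₁ ≫ ((adjR T₀.obj₂).homEquiv _ _).symm x = 0 := by
        rw [← Dual.comp_Rmap, hx, Adjunction.homEquiv_counit]
        exact (congrArg (· ≫ _) (((T X).flip.obj T₀.obj₁).map_zero _ _)).trans zero_comp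
      obtain ⟨r, hr⟩ := H25DTen.Dev.exists_factor_map (Adjunction.ofIsLeftAdjoint ((T X).obj (G q))) _ hT _ h0
      rw [← hr, hvan q hq r, comp_zero, Adjunction.homEquiv_counit]
      exact ((congrArg (· ≫ _) (((T X).flip.obj T₀.obj₂).map_zero _ _)).trans zero_comp).symm
    -- surjectivity
    have hsurj : ∀ y : G j ⟶ (R T₀.obj₁).obj m, ∃ x, x ≫ Rmap T₀.mor₁ m = y := by
      intro y
      obtain ⟨r, hr⟩ := H25DTen.Dev.exists_factor_map (Adjunction.ofIsLeftAdjoint ((T X).obj (G j))) _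
        (inv_rot_of_distTriang _ hT) (((adjR T₀.obj₁).homEquiv _ _).symm y) (hvan' _)
      refine ⟨(adjR T₀.obj₂).homEquiv _ _ r, ((adjR T₀.obj₁).homEquiv _ _).symm.injective ?_⟩
      rw [Dual.comp_Rmap, Equiv.symm_apply_apply]
      exact hr
    have hδ : w ≫ (Rmap T₀.mor₁ m)⟦(1 : ℤ)⟧' = 0 := comp_distTriang_mor_zero₃₁ _ hZ
    have hfw : f ≫ w = 0 := by
      let k := shiftFunctorCompIsoId (DCoh.D X) (1 : ℤ) (-1) (by norm_num)
      let eG : G (j + 1) ≅ (G j)⟦(-1 : ℤ)⟧ :=
        (((DerivedCategory.singleFunctors X.Modules).shiftIso (-1) (j + 1) j (by omega)).app (freeSh V)).symm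
      have h0 : eG.hom ≫ (f ≫ w)⟦(-1 : ℤ)⟧' ≫ k.hom.app _ = 0 := hinj (j + 1) (by omega) _ (by
        have hn := k.hom.naturality (Rmap T₀.mor₁ m)
        simp only [Functor.comp_map, Functor.id_map] at hn
        simp only [Category.assoc]
        rw [← hn, ← Functor.map_comp_assoc, Category.assoc, hδ, comp_zero, Functor.map_zero, zero_comp, comp_zero])
      exact (shiftFunctor _ (-1 : ℤ)).map_eq_zero_iff.1
        ((cancel_mono (k.hom.app _)).1 (((cancel_epi eG.hom).1 (h0.trans comp_zero.symm)).trans zero_comp.symm))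
    obtain ⟨y, hy⟩ := Triangle.coyoneda_exact₃ _ hZ f hfw
    obtain ⟨x, rfl⟩ := hsurj y
    have hψp : Rmap T₀.mor₁ m ≫ p = 0 := comp_distTriang_mor_zero₁₂ _ hZ
    refine hy.trans ?_
    show (x ≫ Rmap T₀.mor₁ m) ≫ p = 0
    rw [Category.assoc, hψp, comp_zero]
  exact isIso_hd_of_cone hZ i (hz (i - 1) (by omega)) (hz i (by omega))

/-- The evaluation map is invertible. -/
theorem isIso_τ {k : DCoh.D X} (hk : ∀ m : ℤ, DCoh.IsPseudoCoherentD m k) (l : DCoh.D X) (al : ℤ) [l.IsGE al] :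
    IsIso (τ l (DerivedCategory.Q.obj I) k) := by
  let m := DerivedCategory.Q.obj I
  obtain ⟨Z, pZ, wZ, hTZ⟩ := distinguished_cocone_triangle (τ l m k)
  refine (Triangle.isZero₃_iff_isIso₁ _ hTZ).1 (MVPush.isZero_of_hd Z fun i₀ => H17.FPExt.isZero_of_stalk _ fun x => ?_)
  haveI hn : (nn l m).IsLE (b₀ - al) := (DerivedCategory.isLE_iff _ _).2 fun i hi =>
    H4RSH.isZero_hd_R_bounded I hI hab (Iso.refl m) (k := l) (c := al) ‹_› (by omega)
  let μ : ℤ := min (i₀ - (b₀ - al) - 3) (al + i₀ - b₀ - 5)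
  obtain ⟨A, k₀, C, φ, p, w, hxA, hA, hφ, hC⟩ := LeadBrown.exists_approx_freeModel hk μ x
  have h₁ : ∀ i, i₀ ≤ i → i ≤ i₀ + 1 →
      IsIso ((DerivedCategory.homologyFunctor _ i).map ((rA A).map (((T X).obj (nn l m)).map φ))) :=
    fun i hi _ => isIso_hd_TObj (nn l m) (b₀ - al) A (T₀ := Triangle.mk φ p w) hφ (μ - 1) hC i (by omega)
  have h₂ : ∀ i, i₀ ≤ i → i ≤ i₀ + 1 →
      IsIso ((DerivedCategory.homologyFunctor _ i).map ((rA A).map (Rmap (Rmap φ l) m))) := by
    intro i hi hi'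
    obtain ⟨W, r, s, hW⟩ := distinguished_cocone_triangle (Rmap φ l)
    let c₀ := al - 1 - μ
    have hW0 : ∀ j ≤ c₀ - 2, IsZero (DCoh.HD ((rA A).obj W) j) := fun j hj =>
      isZero_hd_cone hW j (Dual.isIso_hd_Rmap A hφ l al μ c₀ hC (by omega) j (by omega))
        (Dual.isIso_hd_Rmap A hφ l al μ c₀ hC (by omega) (j + 1) (by omega))
    have hWA : ((rA A).obj W).IsGE (c₀ - 1) :=
      (DerivedCategory.isGE_iff _ _).2 fun j hj => hW0 j (by omega)
    exact isIso_hd_Rmap_bounded I hI hab (T₀ := Triangle.mk (Rmap φ l) r s) hW hWA (by omega)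
  haveI : IsIso ((rA A).map (τ l m k₀)) := isoOn_τ l m hA
  have hw : ∀ i, i₀ ≤ i → i ≤ i₀ + 1 →
      IsIso ((DerivedCategory.homologyFunctor _ i).map ((rA A).map (τ l m k))) := fun i hi hi' => by
    haveI := h₁ i hi hi'
    haveI := h₂ i hi hi'
    have e := congrArg (fun z => (DerivedCategory.homologyFunctor _ i).map ((rA A).map z)) (τ_naturality l m φ)
    simp only [Functor.map_comp] at e
    haveI : IsIso ((DerivedCategory.homologyFunctor _ i).map ((rA A).map (((T X).obj (nn l m)).map φ)) ≫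
        (DerivedCategory.homologyFunctor _ i).map ((rA A).map (τ l m k))) := e.symm ▸ inferInstance
    exact IsIso.of_isIso_comp_left ((DerivedCategory.homologyFunctor _ i).map
      ((rA A).map (((T X).obj (nn l m)).map φ))) ((DerivedCategory.homologyFunctor _ i).map ((rA A).map (τ l m k)))
  have hz := isZero_hd_cone hTZ i₀ (hw i₀ le_rfl (by omega)) (hw (i₀ + 1) (by omega) le_rfl)
  by_contra hne
  exact Set.eq_empty_iff_forall_notMem.1 (Thomason.support_eq_empty_of_isZero hz) ⟨x, hxA⟩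
    ((Thomason.mem_support_rd A.ι Z i₀ _).2 hne)

end Groth.Agent.H16Derived.EvalHom
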