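import Groth.Agent.H16Derived.Dual.BiDual
import Groth.Agent.LeadBrown.RHomPullPC

/-!
# The evaluation map `RHom(l, m) ⊗ k ⟶ RHom(RHom(k, l), m)`
-/

set_option autoImplicit false
set_option linter.style.haveILetI false
set_option linter.unusedSectionVars false
set_option backward.isDefEq.respectTransparency false
set_option maxHeartbeats 1000000

universe u

open CategoryTheory CategoryTheory.Limits CategoryTheory.Functor AlgebraicGeometry Pretriangulated Opposite

attribute [local instance] HasDerivedCategory.standard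

namespace Groth.Agent.H16Derived.EvalHom

open Groth.Agent.H16Derived.QCohD Groth.Agent.H25DTen Groth.Agent.H16Derived.Dual
open Groth.Agent.LeadBrown (evS tSwap Rmap_evS isoOn_Rmap Rmap_comp Rmap_id Rmap_zero isZero_R)

variable {X : Scheme.{u}} (l m : DCoh.D X)

/-- `RHom(l, m)`. -/
noncomputable abbrev nn : DCoh.D X := (R l).obj m

/-- `(RHom(l, m) ⊗ k) ⊗ RHom(k, l) ⟶ m`. -/
noncomputable def t0 (k : DCoh.D X) :
    ((T X).obj (((T X).obj (nn l m)).obj k)).obj ((R k).obj l) ⟶ m :=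
  (α (nn l m) k ((R k).obj l)).hom ≫ ((T X).obj (nn l m)).map (evS k l) ≫ (adjR l).counit.app m

/-- The evaluation map. -/
noncomputable def τ (k : DCoh.D X) : ((T X).obj (nn l m)).obj k ⟶ (R ((R k).obj l)).obj m :=
  (adjR ((R k).obj l)).homEquiv _ _ (t0 l m k)

lemma t0_naturality {k k' : DCoh.D X} (φ : k ⟶ k') :
    ((T X).map (((T X).obj (nn l m)).map φ)).app ((R k').obj l) ≫ t0 l m k' =
      ((T X).obj (((T X).obj (nn l m)).obj k)).map (Rmap φ l) ≫ t0 l m k := by
  rw [t0, t0, α_naturality_mid_assoc, α_naturality_right_assoc]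
  exact congrArg ((α _ _ _).hom ≫ ·) (((((T X).obj (nn l m)).map_comp_assoc _ _ _).symm.trans
    (congrArg (fun z => ((T X).obj (nn l m)).map z ≫ _) (Rmap_evS φ l).symm)).trans
    (((T X).obj (nn l m)).map_comp_assoc _ _ _))

/-- `Hom(g, RHom(l, m) ⊗ k) ⟶ Hom(g ⊗ RHom(k, l), m)`. -/
noncomputable def tt (g k : DCoh.D X) :
    (g ⟶ ((T X).obj (nn l m)).obj k) →+ (((T X).obj g).obj ((R k).obj l) ⟶ m) :=
  AddMonoidHom.mk' (fun y => ((T X).map y).app ((R k).obj l) ≫ t0 l m k) fun x y => by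
    change ((T X).flip.obj ((R k).obj l)).map (x + y) ≫ _ = _
    rw [Functor.map_add]
    exact Preadditive.add_comp _ _ _ _ _ _

lemma tt_eq (g k : DCoh.D X) (y : g ⟶ ((T X).obj (nn l m)).obj k) :
    tt l m g k y = ((adjR ((R k).obj l)).homEquiv _ _).symm (y ≫ τ l m k) := by
  rw [τ, ← Adjunction.homEquiv_naturality_left, Equiv.symm_apply_apply]
  rfl

lemma tt_naturality (g : DCoh.D X) {k k' : DCoh.D X} (φ : k ⟶ k')
    (y : g ⟶ ((T X).obj (nn l m)).obj k) :
    tt l m g k' (y ≫ ((T X).obj (nn l m)).map φ) = ((T X).obj g).map (Rmap φ l) ≫ tt l m g k y := by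
  show ((T X).map (y ≫ _)).app _ ≫ t0 l m k' = _ ≫ ((T X).map y).app _ ≫ t0 l m k
  rw [Functor.map_comp, NatTrans.comp_app, Category.assoc, t0_naturality, NatTrans.naturality_assoc]

/-- The evaluation map is natural. -/
theorem τ_naturality {k k' : DCoh.D X} (φ : k ⟶ k') :
    ((T X).obj (nn l m)).map φ ≫ τ l m k' = τ l m k ≫ Rmap (Rmap φ l) m := by
  apply ((adjR ((R k').obj l)).homEquiv _ _).symm.injective
  rw [← tt_eq, Dual.comp_Rmap, τ, Equiv.symm_apply_apply]
  exact t0_naturality l m φ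

variable (g : DCoh.D X)

/-- `k ↦ Hom(g ⊗ RHom(k, l), m)`. -/
noncomputable def tgE : DCoh.D X ⥤ AddCommGrpCat.{u + 1} where
  obj k := AddCommGrpCat.of (((T X).obj g).obj ((R k).obj l) ⟶ m)
  map φ := AddCommGrpCat.ofHom (Preadditive.leftComp m (((T X).obj g).map (Rmap φ l)))
  map_id k := by
    ext x
    change ((T X).obj g).map (Rmap (𝟙 k) l) ≫ x = x
    rw [Rmap_id, CategoryTheory.Functor.map_id, Category.id_comp]
  map_comp φ ψ := by
    ext x
    change ((T X).obj g).map (Rmap (φ ≫ ψ) l) ≫ x = _ ≫ _ ≫ x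
    rw [Rmap_comp, Functor.map_comp, Category.assoc]

/-- `k ↦ Hom(g, RHom(l, m) ⊗ k)`. -/
noncomputable abbrev srcE : DCoh.D X ⥤ AddCommGrpCat.{u + 1} :=
  (T X).obj (nn l m) ⋙ preadditiveCoyoneda.obj (op g)

/-- The natural transformation. -/
noncomputable def ttNat : srcE l m g ⟶ tgE l m g where
  app k := AddCommGrpCat.ofHom (tt l m g k)
  naturality k k' φ := by
    ext y
    exact tt_naturality l m g φ y

theorem isExact_srcE : Dev.IsExact (srcE l m g) := by
  intro T₀ hT x
  constructor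
  · intro hx
    obtain ⟨q, hq⟩ := Dev.exists_lift_map (Adjunction.ofIsLeftAdjoint ((T X).obj (nn l m))) _ hT x hx
    exact ⟨q, hq⟩
  · rintro ⟨y, rfl⟩
    change (y ≫ ((T X).obj (nn l m)).map T₀.mor₁) ≫ ((T X).obj (nn l m)).map T₀.mor₂ = 0
    rw [Category.assoc, ← Functor.map_comp, comp_distTriang_mor_zero₁₂ _ hT, Functor.map_zero, comp_zero]

theorem isExact_tgE : Dev.IsExact (tgE l m g) := by
  intro T₀ hT x
  constructor
  · intro hx
    obtain ⟨C, j, δ, hd⟩ := distinguished_cocone_triangle₁ (Rmap T₀.mor₁ l)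
    have hj : j ≫ Rmap T₀.mor₁ l = 0 := comp_distTriang_mor_zero₁₂ _ hd
    let z := ((adjR T₀.obj₂).homEquiv _ _).symm j
    have hz : ((T X).obj C).map T₀.mor₁ ≫ z = 0 := by
      rw [← comp_Rmap, hj, Adjunction.homEquiv_counit]
      exact (congrArg (· ≫ _) (((T X).flip.obj T₀.obj₁).map_zero _ _)).trans zero_comp
    obtain ⟨r, hr⟩ := Dev.exists_factor_map (Adjunction.ofIsLeftAdjoint ((T X).obj C)) _ hT _ hz
    let t := (adjR T₀.obj₃).homEquiv _ _ r
    have htj : t ≫ Rmap T₀.mor₂ l = j := ((adjR _).homEquiv _ _).symm.injective (by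
      rw [comp_Rmap, Equiv.symm_apply_apply]; exact hr)
    have h0 : ((T X).obj g).map j ≫ x = 0 := by
      rw [← htj, Functor.map_comp, Category.assoc]
      exact (congrArg (_ ≫ ·) hx).trans comp_zero
    obtain ⟨q, hq⟩ := Dev.exists_factor_map (Adjunction.ofIsLeftAdjoint ((T X).obj g)) _ hd x h0
    exact ⟨q, hq⟩
  · rintro ⟨y, rfl⟩
    change ((T X).obj g).map (Rmap T₀.mor₂ l) ≫ ((T X).obj g).map (Rmap T₀.mor₁ l) ≫ y = 0
    rw [← Functor.map_comp_assoc, ← Rmap_comp, comp_distTriang_mor_zero₁₂ _ hT, Rmap_zero,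
      Functor.map_zero, zero_comp]

variable {g}

lemma isoOn_τ_iff (A : X.Opens) (k : DCoh.D X) :
    IsoOn A (τ l m k) ↔ ∀ H : DCoh.D X, Function.Bijective (tt l m (cut A H) k) := by
  rw [isoOn_iff_bijective]
  refine forall_congr' fun H => ?_
  have e : ⇑(tt l m (cut A H) k) = ((adjR ((R k).obj l)).homEquiv _ _).symm ∘ fun y => y ≫ τ l m k :=
    funext fun y => tt_eq l m _ _ y
  rw [e, Function.Bijective.of_comp_iff' ((adjR ((R k).obj l)).homEquiv _ _).symm.bijective]

lemma tt_bijective_iff_of_isoOn (A : X.Opens) {k k' : DCoh.D X} {φ : k ⟶ k'} (h : IsoOn A φ)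
    (H : DCoh.D X) :
    Function.Bijective (tt l m (cut A H) k') ↔ Function.Bijective (tt l m (cut A H) k) := by
  have hl : Function.Bijective (fun y : cut A H ⟶ ((T X).obj (nn l m)).obj k =>
      y ≫ ((T X).obj (nn l m)).map φ) := (isoOn_iff_bijective A _).1 (isoOn_TObj (nn l m) h) H
  haveI := isIso_TObj_cut A H (isoOn_Rmap h l)
  have hr : Function.Bijective fun z : ((T X).obj (cut A H)).obj ((R k).obj l) ⟶ m =>
      ((T X).obj (cut A H)).map (Rmap φ l) ≫ z :=
    ((asIso (((T X).obj (cut A H)).map (Rmap φ l))).symm.homCongr (Iso.refl m)).bijective |> fun hb => by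
      convert hb using 1
      funext z
      simp
  have e : ⇑(tt l m (cut A H) k') ∘ (fun y => y ≫ ((T X).obj (nn l m)).map φ) =
      (fun z => ((T X).obj (cut A H)).map (Rmap φ l) ≫ z) ∘ ⇑(tt l m (cut A H) k) :=
    funext fun y => tt_naturality l m _ φ y
  rw [← Function.Bijective.of_comp_iff _ hl, e, Function.Bijective.of_comp_iff' hr]

/-- `τ` is an isomorphism over `A` for all shifts. -/
def GoodE (A : X.Opens) (k : DCoh.D X) : Prop := ∀ n : ℤ, IsoOn A (τ l m (k⟦n⟧))

theorem invOn_goodE (A : X.Opens) : InvOn A (GoodE l m A) := fun {k k'} φ h => by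
  refine forall_congr' fun n => ?_
  rw [isoOn_τ_iff, isoOn_τ_iff]
  exact forall_congr' fun H => tt_bijective_iff_of_isoOn l m A (h.shift n) H

theorem stable_goodE (A : X.Opens) : Stable (X := X) (GoodE l m A) where
  of_iso e h := (invOn_goodE l m A e.inv (isoOn_of_isIso A _)).1 h
  shift {k} h n p := by
    have := h (n + p)
    rw [isoOn_τ_iff] at this ⊢
    intro H
    exact (tt_bijective_iff_of_isoOn l m A
      (isoOn_of_isIso A ((shiftFunctorAdd (DCoh.D X) n p).app k).hom) H).2 (this H)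
  ext₂ T₀ hT h₁ h₃ n := by
    rw [isoOn_τ_iff]
    intro H
    exact Dev.bijective_shift_ext (ttNat l m (cut A H)) (isExact_srcE l m _) (isExact_tgE l m _)
      T₀ hT (fun p => (isoOn_τ_iff l m A _).1 (h₁ p) H) (fun p => (isoOn_τ_iff l m A _).1 (h₃ p) H) n
  of_isZero {k} hk n := by
    have hz : IsZero (k⟦n⟧) := Functor.map_isZero _ hk
    have hs : IsZero (((T X).obj (nn l m)).obj (k⟦n⟧)) := Functor.map_isZero _ hz
    have h2 : IsZero ((R ((R (k⟦n⟧)).obj l)).obj m) := by
      rw [IsZero.iff_id_eq_zero]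
      apply ((adjR _).homEquiv _ _).symm.injective
      exact (Functor.map_isZero ((T X).obj _) (isZero_R hz l)).eq_of_src _ _
    haveI : IsIso (τ l m (k⟦n⟧)) := isIso_of_source_target_iso_zero _ hs.isoZero h2.isoZero
    exact isoOn_of_isIso A _

/-- The evaluation map is invertible for invertible objects. -/
theorem isIso_τ_of_isEquivalence (k : DCoh.D X) [((T X).flip.obj k).IsEquivalence] : IsIso (τ l m k) := by
  haveI : ((T X).obj k).IsEquivalence := Functor.isEquivalence_of_iso (tSwap k)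
  haveI : IsIso (evS k l) := inferInstanceAs (IsIso ((LeadBrown.adjS k).counit.app l))
  refine (isIso_iff_yoneda_map_bijective _).2 fun g => ?_
  have e : (fun y : g ⟶ ((T X).obj (nn l m)).obj k => y ≫ τ l m k) =
      (adjR ((R k).obj l)).homEquiv _ _ ∘ ⇑(tt l m g k) := funext fun y => by
    rw [Function.comp_apply, tt_eq, Equiv.apply_symm_apply]
  rw [e]
  refine ((adjR _).homEquiv _ _).bijective.comp ?_
  let F₁ := (T X).flip.obj k
  let g' := F₁.objPreimage g
  let i : F₁.obj g' ≅ g := F₁.objObjPreimageIso g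
  let W := (R k).obj l
  let Φ : ((T X).obj (F₁.obj g')).obj W ≅ ((T X).obj g').obj l :=
    α g' k W ≪≫ ((T X).obj g').mapIso (asIso (evS k l))
  have key : ∀ y' : g' ⟶ nn l m,
      tt l m g k (i.inv ≫ F₁.map y') =
        ((T X).map i.inv).app W ≫ Φ.hom ≫ ((adjR l).homEquiv g' m).symm y' := by
    intro y'
    show ((T X).map (i.inv ≫ F₁.map y')).app W ≫ t0 l m k = _
    rw [Functor.map_comp, NatTrans.comp_app, Category.assoc, Adjunction.homEquiv_counit]
    refine congrArg (((T X).map i.inv).app W ≫ ·) ?_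
    show ((T X).map (((T X).map y').app k)).app W ≫ t0 l m k = _
    rw [t0, α_naturality_left_assoc]
    show _ = ((α g' k W).hom ≫ ((T X).obj g').map (evS k l)) ≫ ((T X).map y').app l ≫ _
    rw [Category.assoc, ← NatTrans.naturality_assoc]
  have hl : Function.Bijective fun y' : g' ⟶ nn l m => i.inv ≫ F₁.map y' := by
    refine Function.Bijective.comp (f := fun y' : g' ⟶ nn l m => F₁.map y')
      (g := fun z => i.inv ≫ z) ?_ ⟨F₁.map_injective, F₁.map_surjective⟩
    exact ⟨fun a b hab => (cancel_epi i.inv).1 hab, fun b => ⟨i.hom ≫ b, i.inv_hom_id_assoc b⟩⟩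
  haveI : IsIso (((T X).map i.inv).app W) := inferInstance
  have hr : Function.Bijective fun z : ((T X).obj g').obj l ⟶ m => ((T X).map i.inv).app W ≫ Φ.hom ≫ z :=
    ⟨fun a b hab => (cancel_epi Φ.hom).1 ((cancel_epi (((T X).map i.inv).app W)).1 hab),
      fun b => ⟨Φ.inv ≫ inv (((T X).map i.inv).app W) ≫ b, by simp⟩⟩
  rw [← Function.Bijective.of_comp_iff _ hl, show ⇑(tt l m g k) ∘ _ =
    (fun z => ((T X).map i.inv).app W ≫ Φ.hom ≫ z) ∘ ((adjR l).homEquiv g' m).symm from funext key]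
  exact hr.comp ((adjR l).homEquiv g' m).symm.bijective

theorem goodE_o (A : X.Opens) (p : ℤ) : GoodE l m A (o X p) := fun n => by
  haveI : ((T X).flip.obj ((o X p)⟦n⟧)).IsEquivalence :=
    Functor.isEquivalence_of_iso ((T X).flip.mapIso (oShiftIso p n).symm)
  haveI := isIso_τ_of_isEquivalence l m ((o X p)⟦n⟧)
  exact isoOn_of_isIso A _

/-- The evaluation map is invertible over `A` for free models. -/
theorem isoOn_τ {A : X.Opens} {k : DCoh.D X} (hA : FreeModel A.ι k) : IsoOn A (τ l m k) := by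
  have h0 := freeModel_induction (stable_goodE l m A) (invOn_goodE l m A) (goodE_o l m A) hA 0
  rw [isoOn_τ_iff] at h0
  exact (isoOn_τ_iff l m A k).2 fun H => (tt_bijective_iff_of_isoOn l m A
    (isoOn_of_isIso A ((shiftFunctorZero (DCoh.D X) ℤ).app k).inv) H).1 (h0 H)

end Groth.Agent.H16Derived.EvalHom
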